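import Cfsg.Agent.OddHalf.Iface
set_option linter.all false

/-!
# ODD half, node D9: the rows

`d9_of_rows`: the node `Iface.D9` (standard component with nontrivial centre, even Lie type or sporadic quotient,
`C(K)` with cyclic Sylow 2-subgroups) from

* the facts on the 2-parts of the Schur multipliers (`Mult`), in the weakest form (cyclic centre);
* one row for each of the remaining covers (`Rows`).
-/

set_option autoImplicit false

namespace Cfsg.Agent.OddHalf.D9.Cut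

open Subgroup Cfsg Cfsg.Agent.OddHalf.Iface

universe u

/-! ### The quotients with even Schur multiplier -/

section Types

variable (X : Type u) [Group X]

/-- `L₃(4)` -/
def XL34 : Prop := ∃ (F : Type) (_ : Field F) (_ : Fintype F), Fintype.card F = 4 ∧
  Nonempty (X ≃* Matrix.ProjectiveSpecialLinearGroup (Fin 3) F)
/-- `U₆(2)` -/
def XU62 : Prop := ∃ (F : Type) (_ : Field F) (_ : Fintype F), Fintype.card F = 4 ∧ Nonempty (X ≃* PSU 6 F 2)
/-- `Sp₆(2)` -/
def XSp62 : Prop := ∃ (F : Type) (_ : Field F) (_ : Fintype F), Fintype.card F = 2 ∧ Nonempty (X ≃* PSp 3 F)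
/-- `Ω₈⁺(2)` -/
def XO82 : Prop := ∃ (F : Type) (_ : Field F) (_ : Fintype F), Fintype.card F = 2 ∧
  Nonempty (X ≃* POmega F (quadFormPlus 4 F))
/-- `G₂(4)` -/
def XG24 : Prop := ∃ (F : Type) (_ : Field F) (_ : Fintype F), Fintype.card F = 4 ∧
  Nonempty (X ≃* ↥(Lie.chevG2.group F))
/-- `F₄(2)` -/
def XF42 : Prop := ∃ (F : Type) (_ : Field F) (_ : Fintype F), Fintype.card F = 2 ∧
  Nonempty (X ≃* ↥(Lie.chevF4.group F))
/-- `²E₆(2)` -/
def X2E62 : Prop := ∃ (F : Type) (_ : Field F) (_ : Fintype F), Fintype.card F = 4 ∧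
  Nonempty (X ≃* ↥(Lie.twistedE6 F 2))
/-- a Suzuki group -/
def XSz : Prop := ∃ (F : Type) (_ : Field F) (_ : Fintype F) (m : ℕ), 1 ≤ m ∧ Fintype.card F = 2 ^ (2 * m + 1) ∧
  Nonempty (X ≃* ↥(Lie.Sz F (2 ^ (m + 1))))

/-- The quotients whose double cover is the only cover with nontrivial cyclic centre. -/
def Exc2 : Prop := XU62 X ∨ XSp62 X ∨ XO82 X ∨ XG24 X ∨ XF42 X ∨ X2E62 X ∨ Spor.IsoM12 X ∨ Spor.IsoJ2 X ∨
  Spor.IsoHS X ∨ Spor.IsoSuz X ∨ Spor.IsoRu X ∨ Spor.IsoFi22 X ∨ Spor.IsoCo1 X ∨ Spor.IsoB X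

/-- The quotients with covers with cyclic centre of order 2 or 4. -/
def Exc4 : Prop := XL34 X ∨ Spor.IsoM22 X

end Types

/-- Quasisimple with cyclic centre a 2-group. -/
def QsCyc (K : Type u) [Group K] : Prop :=
  Finite K ∧ IsQuasisimple K ∧ IsPGroup 2 ↥(center K) ∧ IsCyclic ↥(center K)

/-- The 2-parts of the multipliers. -/
structure Mult : Prop where
  /-- even Lie type -/
  lie : ∀ (K : Type u) [Group K], QsCyc K → LieTwo (K ⧸ center K) → ¬ Exc2 (K ⧸ center K) →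
    ¬ Exc4 (K ⧸ center K) → ¬ XSz (K ⧸ center K) → center K = ⊥
  /-- sporadic -/
  spor : ∀ (K : Type u) [Group K], QsCyc K → IsSporadicGroup (K ⧸ center K) → ¬ Exc2 (K ⧸ center K) →
    ¬ Exc4 (K ⧸ center K) → center K = ⊥
  two : ∀ (K : Type u) [Group K], QsCyc K → Exc2 (K ⧸ center K) → Nat.card ↥(center K) ∣ 2
  four : ∀ (K : Type u) [Group K], QsCyc K → Exc4 (K ⧸ center K) → Nat.card ↥(center K) ∣ 4

/-- The row of a property of `K`: standard, `C(K)` with cyclic Sylow 2-subgroups. No maximality (`Std0`). -/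
def Row (P : (K : Type u) → [Group K] → Prop) : Prop :=
  ∀ (G : Type u) [Group G], Ctx G → ∀ K : Subgroup G, Std0 G K → Cyc K → P ↥K → False

/-- `K = 2.X` -/
def Two (P : (X : Type u) → [Group X] → Prop) (K : Type u) [Group K] : Prop :=
  Nat.card ↥(center K) = 2 ∧ P (K ⧸ center K)

/-- The rows. -/
structure Rows : Prop where
  l34 : Row.{u} (fun K _ => Two (fun X _ => XL34 X) K)
  o82 : Row.{u} (fun K _ => Two (fun X _ => XO82 X) K)
  g24 : Row.{u} (fun K _ => Two (fun X _ => XG24 X) K)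
  f42 : Row.{u} (fun K _ => Two (fun X _ => XF42 X) K)
  m12 : Row.{u} (fun K _ => Two (fun X _ => Spor.IsoM12 X) K)
  j2 : Row.{u} (fun K _ => Two (fun X _ => Spor.IsoJ2 X) K)
  suz : Row.{u} (fun K _ => Two (fun X _ => Spor.IsoSuz X) K)
  ru : Row.{u} (fun K _ => Two (fun X _ => Spor.IsoRu X) K)
  co1 : Row.{u} (fun K _ => Two (fun X _ => Spor.IsoCo1 X) K)
  m22 : Row.{u} (fun K _ => Two (fun X _ => Spor.IsoM22 X) K)
  m22four : Row.{u} (fun K _ => Nat.card ↥(center K) = 4 ∧ Spor.IsoM22 (K ⧸ center K))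

/-- the centre of `K` is cyclic, `C(K)` with cyclic Sylow 2-subgroups -/
theorem center_isCyclic {G : Type u} [Group G] [Finite G] {K : Subgroup G} (hz : IsPGroup 2 ↥(center ↥K))
    (hc : Cyc K) : IsCyclic ↥(center ↥K) := by
  haveI : Fact (Nat.Prime 2) := ⟨Nat.prime_two⟩
  let Z : Subgroup G := (center ↥K).map K.subtype
  have hZ : Z ≤ centralizer (K : Set G) := by
    rintro _ ⟨z, hz, rfl⟩
    rw [mem_centralizer_iff]
    intro k hk
    exact congrArg Subtype.val (mem_center_iff.mp hz ⟨k, hk⟩)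
  have e : ↥(center ↥K) ≃* ↥Z := equivMapOfInjective _ _ K.subtype_injective
  have e2 : ↥(Z.subgroupOf (centralizer (K : Set G))) ≃* ↥Z := subgroupOfEquivOfLe hZ
  have hZp : IsPGroup 2 ↥(Z.subgroupOf (centralizer (K : Set G))) :=
    hz.of_equiv (e.trans e2.symm)
  obtain ⟨R, hR⟩ := hZp.exists_le_sylow
  haveI := hc R
  have h3 : IsCyclic ↥(Z.subgroupOf (centralizer (K : Set G))) :=
    isCyclic_of_injective (inclusion hR) (inclusion_injective hR)
  exact isCyclic_of_injective (e.trans e2.symm).toMonoidHom (e.trans e2.symm).injective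

/-- **D9** from the multiplier facts and the rows. -/
theorem d9_of_rows (M : Mult.{u}) (R : Rows.{u}) : Iface.D9.{u} := by
  intro G _ C K S hc hz ht hl hsz
  haveI := C.fin
  obtain ⟨t, -, hcomp⟩ := S.comp
  have hq : IsQuasisimple ↥K :=
    ⟨⟨by
      have h1 := hcomp.2.2.1.commutator_eq_top
      have e : ↥(K.subgroupOf (centralizer ({t} : Set G))) ≃* ↥K := subgroupOfEquivOfLe hcomp.1
      have h2 := Subgroup.map_commutator (⊤ : Subgroup ↥(K.subgroupOf (centralizer ({t} : Set G)))) ⊤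
        e.toMonoidHom
      rw [← commutator_def, h1] at h2
      have h3 : (⊤ : Subgroup ↥(K.subgroupOf (centralizer ({t} : Set G)))).map e.toMonoidHom = ⊤ := by
        rw [← MonoidHom.range_eq_map, MonoidHom.range_eq_top]
        exact e.surjective
      rw [h3] at h2
      rw [commutator_def, ← h2]⟩, S.simple⟩
  have hQ : QsCyc ↥K := ⟨inferInstance, hq, S.z2, center_isCyclic S.z2 hc⟩
  have hone : Nat.card ↥(center ↥K) ≠ 1 := fun h => hz (Subgroup.card_eq_one.mp h)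
  by_cases h2 : Exc2 (↥K ⧸ center ↥K)
  · have hcard : Nat.card ↥(center ↥K) = 2 :=
      ((Nat.dvd_prime Nat.prime_two).mp (M.two _ hQ h2)).resolve_left hone
    rcases h2 with h | h | h | h | h | h | h | h | h | h | h | h | h | h
    · obtain ⟨F, i1, i2, h3, h4⟩ := h
      exact hl (Or.inr (Or.inr (Or.inl ⟨F, i1, i2, h3, hcard, h4⟩)))
    · obtain ⟨F, i1, i2, h3, h4⟩ := h
      exact hl (Or.inr (Or.inl ⟨F, i1, i2, h3, hcard, h4⟩))
    · exact R.o82 G C K S hc ⟨hcard, h⟩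
    · exact R.g24 G C K S hc ⟨hcard, h⟩
    · exact R.f42 G C K S hc ⟨hcard, h⟩
    · obtain ⟨F, i1, i2, h3, h4⟩ := h
      exact hl (Or.inr (Or.inr (Or.inr (Or.inr (Or.inr (Or.inl ⟨F, i1, i2, h3, hcard, h4⟩))))))
    · exact R.m12 G C K S hc ⟨hcard, h⟩
    · exact R.j2 G C K S hc ⟨hcard, h⟩
    · exact hl (Or.inr (Or.inr (Or.inr (Or.inr (Or.inr (Or.inr (Or.inr (Or.inr (Or.inr (Or.inr (Or.inr
        (Or.inr (Or.inr (Or.inl ⟨hcard, h⟩))))))))))))))
    · exact R.suz G C K S hc ⟨hcard, h⟩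
    · exact R.ru G C K S hc ⟨hcard, h⟩
    · exact hl (Or.inr (Or.inr (Or.inr (Or.inr (Or.inl ⟨hcard, h⟩)))))
    · exact R.co1 G C K S hc ⟨hcard, h⟩
    · exact hl (Or.inr (Or.inr (Or.inr (Or.inr (Or.inr (Or.inr (Or.inr (Or.inl ⟨hcard, h⟩))))))))
  by_cases h4 : Exc4 (↥K ⧸ center ↥K)
  · have hdvd := M.four _ hQ h4
    have hcard : Nat.card ↥(center ↥K) = 2 ∨ Nat.card ↥(center ↥K) = 4 := by
      have hle := Nat.le_of_dvd (by norm_num) hdvd
      interval_cases h : Nat.card ↥(center ↥K)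
      · simp at hdvd
      · exact absurd rfl hone
      · exact Or.inl rfl
      · exact absurd hdvd (by decide)
      · exact Or.inr rfl
    rcases h4 with h | h
    · rcases hcard with hcard | hcard
      · exact R.l34 G C K S hc ⟨hcard, h⟩
      · obtain ⟨F, i1, i2, h3, h4⟩ := h
        exact hl (Or.inr (Or.inr (Or.inr (Or.inr (Or.inr (Or.inr (Or.inr (Or.inr (Or.inr (Or.inr (Or.inl
          ⟨F, i1, i2, h3, hQ.2.2.2, hcard, h4⟩)))))))))))
    · rcases hcard with hcard | hcard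
      · exact R.m22 G C K S hc ⟨hcard, h⟩
      · exact R.m22four G C K S hc ⟨hcard, h⟩
  rcases ht with ht | ht
  · exact hz (M.lie _ hQ ht h2 h4 hsz)
  · exact hz (M.spor _ hQ ht h2 h4)

end Cfsg.Agent.OddHalf.D9.Cut
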